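import Groth.Agent.L15.Ref.ExtPow
import Groth.Agent.L20.ModStalk
import Groth.Agent.L15.OmegaCoh
import Groth.Agent.L22.SchemeDim
import Groth.Agent.L21.Smooth.EtaleRegular
import Groth.Agent.L22.AffineDim
import Mathlib.AlgebraicGeometry.Morphisms.Smooth
import Mathlib.AlgebraicGeometry.Noetherian
import Groth.Prelude.Def_DeRham2
import Mathlib.LinearAlgebra.ExteriorPower.Basis
import Mathlib.RingTheory.Smooth.StandardSmoothCotangent

/-!
# Vanishing of high exterior powers of differentials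
-/

set_option autoImplicit false
set_option linter.style.haveILetI false
set_option backward.isDefEq.respectTransparency false
set_option backward.isDefEq.respectTransparency.types false

universe u

open CategoryTheory CategoryTheory.Limits AlgebraicGeometry TopologicalSpace Opposite

noncomputable section

namespace Groth.L15.Hyper

theorem subsingleton_extPow_of_surjective {R : Type*} [CommRing R] {M : Type*} [AddCommGroup M] [Module R M]
    {N p : ℕ} (g : (Fin N → R) →ₗ[R] M) (hg : Function.Surjective g) (hp : N < p) :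
    Subsingleton ↥(⋀[R]^p M) := by
  rcases subsingleton_or_nontrivial R with _ | _
  · exact Module.subsingleton R _
  have h : Subsingleton ↥(⋀[R]^p (Fin N → R)) := by
    have h0 : Module.finrank R ↥(⋀[R]^p (Fin N → R)) = 0 := by
      rw [exteriorPower.finrank_eq, Module.finrank_fin_fun, Nat.choose_eq_zero_of_lt hp]
    exact (Module.finBasisOfFinrankEq R _ h0).repr.toEquiv.subsingleton
  exact (exteriorPower.map_surjective (n := p) hg).subsingleton

variable {X : Scheme.{u}}

theorem isZero_of_subsingleton_sections (M : X.Modules) [Coh.IsQCoh M]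
    (h : ∀ x : X, ∃ U : X.Opens, IsAffineOpen U ∧ x ∈ U ∧ Subsingleton Γ(M, U)) : IsZero M := by
  have key : ∀ (V : X.Opens) (s : Γ(M, V)), s = 0 := fun V s => by
    refine TopCat.Presheaf.section_ext ⟨M.presheaf, Scheme.Modules.isSheaf M⟩ V s 0 fun x hx => ?_
    obtain ⟨U, hU, hxU, hs⟩ := h x
    letI := Groth.L20.ModStalk.stalkModule M hxU
    have hz : ∀ z : M.presheaf.stalk x, z = 0 := fun z => by
      haveI := Groth.L20.ModStalk.isLocalizedModule_germ M hU hxU
      obtain ⟨⟨m, t⟩, rfl⟩ := IsLocalizedModule.mk'_surjective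
        (hU.primeIdealOf ⟨x, hxU⟩).asIdeal.primeCompl (Groth.L20.ModStalk.germₗ M hxU) z
      simp [Subsingleton.elim m 0]
    rw [map_zero]
    exact hz _
  rw [IsZero.iff_id_eq_zero]
  ext V s
  exact key V s

variable {S : Scheme.{u}} {f : X ⟶ S} [QuasiSeparated f] (D : DeRhamSh.OmegaCx f)

theorem isZero_term [IsLocallyNoetherian X] (hq : Coh.IsCoh (Omega.sheaf f)) (p : ℕ)
    (h : ∀ x : X, ∃ U : X.Opens, IsAffineOpen U ∧ x ∈ U ∧ Subsingleton ↥(⋀[Γ(X, U)]^p Γ(Omega.sheaf f, U))) :
    IsZero (D.term p) := by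
  haveI := (Groth.L15.Ref.isCoh_extPow hq (D.isExtPow p)).1
  refine isZero_of_subsingleton_sections (D.term p) fun x => ?_
  obtain ⟨U, hU, hx, hs⟩ := h x
  exact ⟨U, hU, hx, (D.loc p ⟨U, hU⟩).toEquiv.subsingleton_congr.2 hs⟩

theorem isZero_K_of_isZero_term (p : ℕ) (h : IsZero (D.term p)) : IsZero (D.K.X p) :=
  (Functor.map_isZero (SheafOfModules.toSheaf _) h).of_iso (D.iso p)

/-- The relative dimension of a standard smooth algebra over a field is at most its dimension. -/
theorem relDim_le (k A : Type u) [Field k] [CommRing A] [Nontrivial A] [Algebra k A] (m : ℕ)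
    [Algebra.IsStandardSmoothOfRelativeDimension m k A] : (m : WithBot ℕ∞) ≤ ringKrullDim A := by
  haveI : Algebra.IsStandardSmooth k A := Algebra.IsStandardSmoothOfRelativeDimension.isStandardSmooth m
  obtain ⟨q, hq⟩ := Ideal.exists_maximal A
  haveI := hq
  obtain ⟨g, hg⟩ := Algebra.IsStandardSmoothOfRelativeDimension.exists_etale_mvPolynomial m k A
  letI := g.toRingHom.toAlgebra
  haveI : Algebra.Etale (MvPolynomial (Fin m) k) A := hg
  haveI : (q.under (MvPolynomial (Fin m) k)).IsMaximal := by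
    letI : Field (A ⧸ q) := Ideal.Quotient.field q
    haveI : Algebra.FiniteType (MvPolynomial (Fin m) k) (A ⧸ q) :=
      Algebra.FiniteType.of_surjective (Ideal.Quotient.mkₐ (MvPolynomial (Fin m) k) q) Ideal.Quotient.mk_surjective
    haveI : Module.Finite (MvPolynomial (Fin m) k) (A ⧸ q) := finite_of_finite_type_of_isJacobsonRing _ _
    have hm := Ideal.isMaximal_comap_of_isIntegral_of_isMaximal (R := MvPolynomial (Fin m) k) (⊥ : Ideal (A ⧸ q))
    rw [IsScalarTower.algebraMap_eq (MvPolynomial (Fin m) k) A (A ⧸ q), ← Ideal.comap_comap,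
      ← RingHom.ker_eq_comap_bot, Ideal.Quotient.algebraMap_eq, Ideal.mk_ker] at hm
    exact hm
  have h1 := (Groth.L21.Smooth.regular_localization_of_etale (MvPolynomial (Fin m) k) A q).2
  rw [IsLocalization.AtPrime.ringKrullDim_eq_height q, IsLocalization.AtPrime.ringKrullDim_eq_height
    (q.under (MvPolynomial (Fin m) k)),
    Groth.L22.AffineDim.height_of_isMaximal k (MvPolynomial (Fin m) k),
    MvPolynomial.ringKrullDim_of_isNoetherianRing, ringKrullDim_eq_zero_of_field, zero_add] at h1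
  simp only [Nat.card_eq_fintype_card, Fintype.card_fin] at h1
  exact h1 ▸ Ideal.height_le_ringKrullDim_of_ne_top (Ideal.IsPrime.ne_top inferInstance)

end Groth.L15.Hyper

namespace Groth.L15.Hyper

variable {X : Scheme.{u}} {k : Type u} [Field k] (f : X ⟶ Spec (CommRingCat.of k))

theorem exists_surjective_omega [QuasiSeparated f] [Smooth f] {n : ℕ} (hn : topologicalKrullDim ↥X ≤ n) (x : X) :
    ∃ U : X.Opens, IsAffineOpen U ∧ x ∈ U ∧ ∃ (m : ℕ), m ≤ n ∧
      ∃ g : (Fin m → Γ(X, U)) →ₗ[Γ(X, U)] Γ(Omega.sheaf f, U), Function.Surjective g := by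
  obtain ⟨V, hV, W, hW, hxW, e, hsm⟩ := Smooth.exists_isStandardSmooth f x
  obtain rfl : V = ⊤ := by
    ext y
    simp only [Opens.coe_top, Set.mem_univ, iff_true]
    obtain rfl : y = f x := Subsingleton.elim (α := PrimeSpectrum k) _ _
    exact e hxW
  letI : Field Γ(Spec (CommRingCat.of k), ⊤) :=
    ((Scheme.ΓSpecIso (CommRingCat.of k)).commRingCatIsoToRingEquiv.toMulEquiv.isField (Field.toIsField k)).toField
  letI : Algebra Γ(Spec (CommRingCat.of k), ⊤) Γ(X, W) := (f.appLE ⊤ W e).hom.toAlgebra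
  haveI : Algebra.IsStandardSmooth Γ(Spec (CommRingCat.of k), ⊤) Γ(X, W) := hsm
  haveI : Nontrivial Γ(X, W) := (X.presheaf.germ W x hxW).hom.domain_nontrivial
  obtain ⟨_, _, _, _, ⟨P⟩⟩ := Algebra.IsStandardSmooth.out (R := Γ(Spec (CommRingCat.of k), ⊤)) (S := Γ(X, W))
  haveI : Algebra.IsStandardSmoothOfRelativeDimension P.dimension Γ(Spec (CommRingCat.of k), ⊤) Γ(X, W) :=
    ⟨_, _, _, inferInstance, P, rfl⟩
  have hm : P.dimension ≤ n := by
    have h1 := relDim_le Γ(Spec (CommRingCat.of k), ⊤) Γ(X, W) P.dimension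
    rw [← Groth.L22.SchemeDim.topologicalKrullDim_affineOpen hW] at h1
    exact_mod_cast h1.trans ((Topology.IsEmbedding.subtypeVal.topologicalKrullDim_le).trans hn)
  obtain ⟨E⟩ := Groth.L15.OmegaCoh.exists_sections_equiv f hW hV e
  haveI : Module.Finite Γ(X, W) Ω[Γ(X, W)⁄Γ(Spec (CommRingCat.of k), ⊤)] := inferInstance
  haveI : Module.Free Γ(X, W) Ω[Γ(X, W)⁄Γ(Spec (CommRingCat.of k), ⊤)] := inferInstance
  let b := Module.finBasisOfFinrankEq Γ(X, W) Ω[Γ(X, W)⁄Γ(Spec (CommRingCat.of k), ⊤)]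
    (Module.finrank_eq_of_rank_eq (Algebra.IsStandardSmoothOfRelativeDimension.rank_kaehlerDifferential
      (R := Γ(Spec (CommRingCat.of k), ⊤)) (S := Γ(X, W)) P.dimension))
  exact ⟨W, hW, hxW, P.dimension, hm, (b.equivFun.symm.trans E).toLinearMap,
    (b.equivFun.symm.trans E).surjective⟩

theorem isZero_term_of_smooth [QuasiSeparated f] [Smooth f] (D : DeRhamSh.OmegaCx f) {n : ℕ}
    (hn : topologicalKrullDim ↥X ≤ n) {p : ℕ} (hp : n < p) : IsZero (D.term p) :=
  haveI := LocallyOfFiniteType.isLocallyNoetherian f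
  isZero_term D (Groth.L15.OmegaCoh.isCoh_omega f) p fun x => by
    obtain ⟨U, hU, hx, m, hm, g, hg⟩ := exists_surjective_omega f hn x
    exact ⟨U, hU, hx, subsingleton_extPow_of_surjective g hg (by omega)⟩

theorem isQCoh_term {S : Scheme.{u}} [IsLocallyNoetherian S] (f : X ⟶ S) [QuasiSeparated f] [LocallyOfFiniteType f]
    (D : DeRhamSh.OmegaCx f) (p : ℕ) : Coh.IsQCoh (D.term p) := by
  haveI := LocallyOfFiniteType.isLocallyNoetherian f
  exact (Groth.L15.Ref.isCoh_extPow (Groth.L15.OmegaCoh.isCoh_omega f) (D.isExtPow p)).1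

end Groth.L15.Hyper
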