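import Groth.Agent.L15.Ref.ExtPow

/-! Exterior powers of quasi-coherent modules are quasi-coherent. -/

set_option autoImplicit false
set_option linter.style.haveILetI false

universe u

open CategoryTheory AlgebraicGeometry TopologicalSpace Opposite TensorProduct

noncomputable section

namespace Groth.L15.Ref

open Groth.L18.Frame (rs ro rs_rs rs_smul)

variable {X : Scheme.{u}} {n : ℕ} {E L : X.Modules}

theorem isQCoh_extPow (hE : Coh.IsQCoh E) (h : ExtPow.IsExtPow n E L) : Coh.IsQCoh L := by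
  obtain ⟨φ, hφ⟩ := h
  haveI : Coh.IsQCoh E := hE
  refine Groth.L16.QcqsPush.isQCoh_of_sections _ fun x => ?_
  obtain ⟨V, hV, hxV, -⟩ := exists_isAffineOpen_mem_and_subset (x := x) (U := ⊤) trivial
  refine ⟨V, hxV, hV, fun a => ?_⟩
  let V₀ : X.affineOpens := ⟨V, hV⟩
  let Va : X.affineOpens := ⟨X.basicOpen a, hV.basicOpen a⟩
  letI : Algebra Γ(X, V) Γ(X, X.basicOpen a) := (X.presheaf.map (homOfLE (X.basicOpen_le a)).op).hom.toAlgebra
  haveI : IsLocalization.Away a Γ(X, X.basicOpen a) := hV.isLocalization_basicOpen a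
  letI := Module.compHom Γ(E, X.basicOpen a) (X.presheaf.map (homOfLE (X.basicOpen_le a)).op).hom
  haveI : IsScalarTower Γ(X, V) Γ(X, X.basicOpen a) Γ(E, X.basicOpen a) :=
    IsScalarTower.of_algebraMap_smul fun _ _ => rfl
  haveI := Groth.L20.ModStalk.isLocalizedModule_res (M := E) hV a
  obtain ⟨Ψ, hΨ, hsurj, hker⟩ := exterior_localized (A := Γ(X, V)) (B := Γ(X, X.basicOpen a))
    (M := Γ(E, V)) (M' := Γ(E, X.basicOpen a)) (Submonoid.powers a)
    ({ toFun := fun s => rs E (X.basicOpen_le a) s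
       map_add' := fun _ _ => map_add _ _ _
       map_smul' := fun b s => rs_smul E (X.basicOpen_le a) b s } : Γ(E, V) →ₗ[Γ(X, V)] Γ(E, X.basicOpen a)) n
  have hcompat : ∀ y : ↥(⋀[Γ(X, V)]^n Γ(E, V)),
      rs L (X.basicOpen_le a) ((φ V₀).symm y) = (φ Va).symm (Ψ y) := by
    intro y
    have hy : y ∈ Submodule.span Γ(X, V) (Set.range (exteriorPower.ιMulti Γ(X, V) n (M := Γ(E, V)))) :=
      (exteriorPower.ιMulti_span Γ(X, V) n Γ(E, V)).ge trivial
    induction hy using Submodule.span_induction with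
    | mem y hy =>
      obtain ⟨v, rfl⟩ := hy
      rw [hΨ]
      exact hφ V₀ Va (X.basicOpen_le a) v
    | zero =>
      refine (congrArg (rs L (X.basicOpen_le a)) (map_zero (φ V₀).symm)).trans ?_
      rw [map_zero Ψ]
      exact (map_zero (L.presheaf.map (homOfLE (X.basicOpen_le a)).op).hom).trans (map_zero (φ Va).symm).symm
    | add y z _ _ h1 h2 =>
      refine (congrArg (rs L (X.basicOpen_le a)) (map_add (φ V₀).symm y z)).trans ?_
      refine (map_add (L.presheaf.map (homOfLE (X.basicOpen_le a)).op).hom _ _).trans ?_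
      rw [map_add Ψ]
      exact (congrArg₂ (· + ·) h1 h2).trans (map_add (φ Va).symm _ _).symm
    | smul b y _ h1 =>
      refine (congrArg (rs L (X.basicOpen_le a)) ((φ V₀).symm.map_smul b y)).trans ?_
      refine (rs_smul L (X.basicOpen_le a) b _).trans ?_
      rw [map_smul Ψ, ← algebraMap_smul Γ(X, X.basicOpen a) b (Ψ y), h1]
      exact ((φ Va).symm.map_smul _ _).symm
  refine ⟨fun s => ?_, fun t ht => ?_⟩
  · obtain ⟨y, ⟨_, m, rfl⟩, hy⟩ := hsurj (φ Va s)
    refine ⟨m, (φ V₀).symm y, ?_⟩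
    rw [hcompat, ← hy]
    refine ((φ Va).symm.map_smul _ _).trans ?_
    rw [LinearEquiv.symm_apply_apply]
    rfl
  · have h1 : Ψ (φ V₀ t) = 0 := by
      have h2 := hcompat (φ V₀ t)
      rw [LinearEquiv.symm_apply_apply] at h2
      exact (φ Va).symm.injective ((h2.symm.trans ht).trans (map_zero _).symm)
    obtain ⟨⟨_, m, rfl⟩, hs⟩ := hker _ h1
    refine ⟨m, (φ V₀).injective ?_⟩
    exact ((φ V₀).map_smul _ _).trans (hs.trans (map_zero _).symm)

end Groth.L15.Ref
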