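import Groth.Agent.L10.CechHDU.Hyper
import Mathlib.Algebra.Homology.Factorizations.CM5a
import Mathlib.Algebra.Homology.DerivedCategory.KInjective

/-!
# A bounded below complex of acyclic sheaves computes hypercohomology
-/

set_option autoImplicit false
set_option linter.style.haveILetI false
set_option backward.defeqAttrib.useBackward true
set_option backward.isDefEq.respectTransparency false
set_option backward.isDefEq.respectTransparency.types false

universe v u

open CategoryTheory CategoryTheory.Limits CategoryTheory.Abelian Opposite TopologicalSpace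

noncomputable section

namespace Groth.L15.Hyper

open Groth.L10.LerayBase Groth.L10.SiteCoh Groth.L10.CechHDU Groth.L10.CechHDU.Hyper

local notation "up" => ComplexShape.up ℤ

variable {X : TopCat.{u}}

/-- The sections functor of the whole space. -/
abbrev Γt (X : TopCat.{u}) : CohTop.Ab X ⥤ AddCommGrpCat.{u} :=
  Γ (J := Opens.grothendieckTopology X) (⊤ : Opens X)

theorem quasiIso_sections {K I : CochainComplex (CohTop.Ab X) ℤ} (φ : K ⟶ I) [QuasiIso φ] (a : ℤ)
    (haK : ∀ i < a, IsZero (K.X i)) (haI : ∀ i < a, IsZero (I.X i))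
    (hK : ∀ i, Acy (J := Opens.grothendieckTopology X) (⊤ : Opens X) (K.X i))
    (hI : ∀ i, Acy (J := Opens.grothendieckTopology X) (⊤ : Opens X) (I.X i)) :
    QuasiIso (((Γt X).mapHomologicalComplex up).map φ) := by
  refine Groth.L00.Cell.quasiIso_of_acyclic_cone _ fun n => ?_
  rw [← HomologicalComplex.exactAt_iff_isZero_homology]
  refine HomologicalComplex.ExactAt.of_iso ?_ (CochainComplex.mappingCone.mapHomologicalComplexIso φ (Γt X))
  rw [HomologicalComplex.exactAt_iff' _ (n - 1) n (n + 1) (by simp) (by simp), ShortComplex.ab_exact_iff]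
  intro x hx
  refine exists_sect_preimage (fun i => (HomologicalComplex.exactAt_iff_isZero_homology _ _).2
    (Groth.L00.ConeTransfer.acyclic_cone φ i)) (a - 1) (fun i hi => ?_) (acy_cone φ hK hI) (n - 1) n (n + 1)
    (by omega) rfl x hx
  rw [IsZero.iff_id_eq_zero, ← CochainComplex.mappingCone.id_X φ i (i + 1) rfl,
    (haK (i + 1) (by omega)).eq_of_tgt ((CochainComplex.mappingCone.fst φ).1.v i (i + 1) rfl) 0, zero_comp,
    (haI i (by omega)).eq_of_tgt ((CochainComplex.mappingCone.snd φ).v i i (add_zero i)) 0, zero_comp, add_zero]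

theorem nonempty_sections_equiv_HDU [HasDerivedCategory.{u} (CohTop.Ab X)] {K : CochainComplex (CohTop.Ab X) ℤ}
    (haK : ∀ i < 0, IsZero (K.X i))
    (hK : ∀ i, Acy (J := Opens.grothendieckTopology X) (⊤ : Opens X) (K.X i)) (n : ℤ) :
    Nonempty (↑((((Γt X).mapHomologicalComplex up).obj K).homology n) ≃+
      CohCx.HDU (DerivedCategory.Q.obj K) n (⊤ : Opens X)) := by
  haveI : K.IsStrictlyGE 0 := (CochainComplex.isStrictlyGE_iff K 0).2 fun i hi => haK i hi
  haveI : EnoughInjectives (CohTop.Ab X) := IsGrothendieckAbelian.enoughInjectives.{u}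
  obtain ⟨I, φ, hφ, hI, hGE⟩ := CochainComplex.Plus.modelCategoryQuillen.exists_quasiIso_injective K 0
  haveI := hφ
  haveI := hGE
  haveI : ∀ i, Injective (I.X i) := hI
  haveI := CochainComplex.isKInjective_of_injective I 0
  haveI := quasiIso_sections φ 0 haK (fun i hi => CochainComplex.isZero_of_isStrictlyGE I 0 i hi) hK
    fun i => acy_injective _
  obtain ⟨e⟩ := nonempty_homology_equiv_HDU φ n
  exact ⟨(asIso (HomologicalComplex.homologyMap (((Γt X).mapHomologicalComplex up).map φ) n)).addCommGroupIsoToAddEquiv.trans e⟩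

section Extend

variable {C D : Type*} [Category C] [Category D] [Preadditive C] [Preadditive D]
  [HasZeroObject C] [HasZeroObject D] (F : C ⥤ D) [F.Additive] (K : CochainComplex C ℕ)

theorem nonempty_map_extend_iso :
    Nonempty ((F.mapHomologicalComplex up).obj (K.extend ComplexShape.embeddingUpNat) ≅
      ((F.mapHomologicalComplex (ComplexShape.up ℕ)).obj K).extend ComplexShape.embeddingUpNat) := by
  classical
  let M := ((F.mapHomologicalComplex (ComplexShape.up ℕ)).obj K).extend ComplexShape.embeddingUpNat
  have h : ∀ m : ℤ, ∃ e : F.obj ((K.extend ComplexShape.embeddingUpNat).X m) ≅ M.X m,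
      ∀ (p : ℕ) (hp : ComplexShape.embeddingUpNat.f p = m),
        e.hom = F.map (K.extendXIso _ hp).hom ≫
          (((F.mapHomologicalComplex (ComplexShape.up ℕ)).obj K).extendXIso _ hp).inv := fun m => by
    by_cases hm : ∃ p : ℕ, ComplexShape.embeddingUpNat.f p = m
    · obtain ⟨p, hp⟩ := hm
      refine ⟨F.mapIso (K.extendXIso _ hp) ≪≫
        (((F.mapHomologicalComplex (ComplexShape.up ℕ)).obj K).extendXIso _ hp).symm, fun p' hp' => ?_⟩
      obtain rfl : p' = p := ComplexShape.embeddingUpNat.injective_f (hp'.trans hp.symm)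
      rfl
    · exact ⟨(Functor.map_isZero F (K.isZero_extend_X _ m (by simpa using hm))).iso
        (HomologicalComplex.isZero_extend_X _ _ m (by simpa using hm)), fun p hp => (hm ⟨p, hp⟩).elim⟩
  choose e he using h
  refine ⟨HomologicalComplex.Hom.isoOfComponents e fun i j hij => ?_⟩
  by_cases hi : ∃ p : ℕ, ComplexShape.embeddingUpNat.f p = i
  · obtain ⟨p, hp⟩ := hi
    have hq : ComplexShape.embeddingUpNat.f (p + 1) = j := by
      simp only [ComplexShape.embeddingUpNat_f] at hp ⊢
      simp only [ComplexShape.up_Rel] at hij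
      omega
    rw [he i p hp, he j (p + 1) hq, Functor.mapHomologicalComplex_obj_d]
    simp [HomologicalComplex.extend_d_eq _ _ hp hq]
  · exact (Functor.map_isZero F (K.isZero_extend_X _ i (by simpa using hi))).eq_of_src _ _

end Extend

end Groth.L15.Hyper
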