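import Groth.Prelude.Def_DeRham2
import Groth.Prelude.Def_DeRham
import Groth.Agent.L15.Hyper.Sections
import Groth.Agent.L15.Hyper.ExtQCoh
import Groth.Agent.L17.AffineVanishing
import Groth.Agent.L19.ConormalAffine
import Groth.Agent.L19.OmegaSh.OmAff
import Groth.Agent.L14.DeRham.Map
import Groth.Agent.L14.DeRham.Basic
import Mathlib.Algebra.Category.ModuleCat.Abelian

/-!
# De Rham hypercohomology of an affine scheme
-/

set_option autoImplicit false
set_option linter.style.haveILetI false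
set_option backward.defeqAttrib.useBackward true
set_option backward.isDefEq.respectTransparency false
set_option backward.isDefEq.respectTransparency.types false

universe u

open CategoryTheory CategoryTheory.Limits AlgebraicGeometry TopologicalSpace Opposite exteriorPower

noncomputable section

namespace Groth.L15.Hyper

variable (R A : Type u) [CommRing R] [CommRing A] [Algebra R A]

/-- The affine morphism. -/
abbrev spf : Spec (CommRingCat.of A) ⟶ Spec (CommRingCat.of R) :=
  Spec.map (CommRingCat.ofHom (algebraMap R A))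

/-- Semilinear bijections induce bijections on exterior powers. -/
theorem exists_extEquiv {B N : Type u} [CommRing B] [AddCommGroup N] [Module B N] {M : Type u} [AddCommGroup M]
    [Module A M] (σ : A →+* B) (hσ : Function.Bijective σ) (φ : M →ₛₗ[σ] N) (hφ : Function.Bijective φ) (p : ℕ) :
    ∃ H : ↥(⋀[A]^p M) →ₛₗ[σ] ↥(⋀[B]^p N),
      Function.Bijective H ∧ ∀ v, H (ιMulti A p v) = ιMulti B p fun i => φ (v i) := by
  let σe := RingEquiv.ofBijective σ hσ
  let σi : B →+* A := σe.symm.toRingHom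
  let ψ : N →ₛₗ[σi] M :=
    { toFun := fun y => (Equiv.ofBijective φ hφ).symm y
      map_add' := fun a b => hφ.1 (by
        simp only [map_add]
        simp [Equiv.ofBijective_apply_symm_apply])
      map_smul' := fun r y => hφ.1 (by
        rw [LinearMap.map_smulₛₗ, show σ (σi r) = r from σe.apply_symm_apply r]
        simp [Equiv.ofBijective_apply_symm_apply]) }
  have h1 : ∀ x, ψ (φ x) = x := fun x => (Equiv.ofBijective φ hφ).symm_apply_apply x
  have h2 : ∀ y, φ (ψ y) = y := fun y => (Equiv.ofBijective φ hφ).apply_symm_apply y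
  obtain ⟨H, hH⟩ := Groth.L14.DeRham.exists_extMap φ p
  obtain ⟨H', hH'⟩ := Groth.L14.DeRham.exists_extMap ψ p
  have k1 : ∀ x, H' (H x) = x := fun x => by
    have hx : x ∈ Submodule.span A (Set.range (ιMulti A p (M := M))) := (ιMulti_span A p M).ge trivial
    induction hx using Submodule.span_induction with
    | mem y hy => obtain ⟨v, rfl⟩ := hy; rw [hH, hH']; simp only [h1]
    | zero => simp
    | add y z _ _ hy hz => rw [map_add, map_add, hy, hz]
    | smul c y _ hy =>
      rw [LinearMap.map_smulₛₗ, LinearMap.map_smulₛₗ, hy, show σi (σ c) = c from σe.symm_apply_apply c]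
  have k2 : ∀ x, H (H' x) = x := fun x => by
    have hx : x ∈ Submodule.span B (Set.range (ιMulti B p (M := N))) := (ιMulti_span B p N).ge trivial
    induction hx using Submodule.span_induction with
    | mem y hy => obtain ⟨v, rfl⟩ := hy; rw [hH', hH]; simp only [h2]
    | zero => simp
    | add y z _ _ hy hz => rw [map_add, map_add, hy, hz]
    | smul c y _ hy =>
      rw [LinearMap.map_smulₛₗ, LinearMap.map_smulₛₗ, hy, show σ (σi c) = c from σe.apply_symm_apply c]
  exact ⟨H, Function.bijective_iff_has_inverse.2 ⟨H', k1, k2⟩, hH⟩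

variable (D : DeRhamSh.OmegaCx (spf R A))

/-- The whole space as an affine open. -/
abbrev topAff : (Spec (CommRingCat.of A)).affineOpens := ⟨⊤, isAffineOpen_top _⟩

theorem exists_termEquiv (p : ℕ) :
    ∃ e : ↥(⋀[A]^p (Ω[A⁄R])) ≃+ ((D.K.X p).obj.obj (op (⊤ : (Spec (CommRingCat.of A)).Opens))),
      ∀ (b₀ : A) (b : Fin p → A), e (DeRham.gen (KaehlerDifferential.D R A) p b₀ b) =
        (D.iso p).inv.hom.app (op ⊤) ((D.loc p (topAff A)).symm
          (OmAff.toΓ A b₀ • ιMulti _ p fun i => (OmegaSh.dOmega (spf R A)).app ⊤ (OmAff.toΓ A (b i)))) := by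
  obtain ⟨H, hHb, hH⟩ := exists_extEquiv A (OmAff.toΓ A)
    (ConcreteCategory.bijective_of_isIso (Scheme.ΓSpecIso (CommRingCat.of A)).inv)
    (OmAff.toSpec R A) (Groth.L19.OmegaSh.bijective_toSpec R A) p
  let eK : Γ(D.term p, (topAff A).1) ≃+ ((D.K.X p).obj.obj (op (⊤ : (Spec (CommRingCat.of A)).Opens))) :=
    ((((sheafToPresheaf _ _).mapIso (D.iso p).symm).app (op ⊤)).addCommGroupIsoToAddEquiv)
  refine ⟨(((AddEquiv.ofBijective H.toAddMonoidHom hHb)).trans (D.loc p (topAff A)).symm.toAddEquiv).trans eK,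
    fun b₀ b => ?_⟩
  show (D.iso p).inv.hom.app (op ⊤) ((D.loc p (topAff A)).symm (H (DeRham.gen _ p b₀ b))) = _
  refine congrArg (fun z => (D.iso p).inv.hom.app (op ⊤) ((D.loc p (topAff A)).symm z)) ?_
  rw [DeRham.gen, LinearMap.map_smulₛₗ, hH]
  refine congrArg (fun z => OmAff.toΓ A b₀ • ιMulti _ p z) (funext fun i => ?_)
  exact OmAff.toSpec_D R A (b i)

theorem acy_term (i : ℤ) :
    Groth.L10.LerayBase.Acy (J := Opens.grothendieckTopology (Spec (CommRingCat.of A)))
      (⊤ : (Spec (CommRingCat.of A)).Opens) (D.KZ.X i) := by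
  rcases lt_or_ge i 0 with hi | hi
  · exact Groth.L10.CechHDU.Hyper.acy_of_isZero (D.K.isZero_extend_X _ i fun p hp => by
      simp only [ComplexShape.embeddingUpNat_f] at hp; omega)
  · obtain ⟨p, rfl⟩ := Int.eq_ofNat_of_zero_le hi
    refine Groth.L10.LerayBase.Acy.of_iso
      (D.K.extendXIso _ (ComplexShape.embeddingUpNat_f p) ≪≫ D.iso p).symm fun q => ?_
    have hΩ : Coh.IsQCoh (Omega.sheaf (spf R A)) := by
      obtain ⟨e⟩ := Groth.L19.Conormal.omega_iso_tilde R A
      exact Groth.L18.TildeF.isQCoh_of_iso e.symm inferInstance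
    haveI := Groth.L15.Ref.isQCoh_extPow hΩ (D.isExtPow p)
    haveI := Groth.L17.subsingleton_HH_of_isAffine (Spec (CommRingCat.of A)) (D.term p) q
    exact (Groth.L17.hTopEquiv (Coh.toAb (D.term p)) (q + 1)).symm.toEquiv.subsingleton

theorem nonempty_hdR_equiv [HasDerivedCategory.{u} (Sheaf (Opens.grothendieckTopology ↥(Spec (CommRingCat.of A))) AddCommGrpCat.{u})]
    (d : ∀ p : ℕ, ↥(⋀[A]^p (Ω[A⁄R])) →ₗ[R] ↥(⋀[A]^(p + 1) (Ω[A⁄R])))
    (hd : DeRham.IsDiff (KaehlerDifferential.D R A) d) (n : ℕ) :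
    Nonempty (DeRhamSh.HdR D (n : ℤ) ≃+ ↑(DeRham.H hd n)) := by
  choose e he using exists_termEquiv R A D
  letI : HasDerivedCategory.{u} (CohTop.Ab (Spec (CommRingCat.of A)).toTopCat) :=
    (inferInstance : HasDerivedCategory.{u} (Sheaf (Opens.grothendieckTopology ↥(Spec (CommRingCat.of A))) AddCommGrpCat.{u}))
  obtain ⟨E1⟩ := nonempty_sections_equiv_HDU (X := (Spec (CommRingCat.of A)).toTopCat) (K := D.KZ)
    (fun i hi => D.K.isZero_extend_X _ i fun p hp => by simp only [ComplexShape.embeddingUpNat_f] at hp; omega)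
    (acy_term R A D) (n : ℤ)
  let ΓT := Γt (Spec (CommRingCat.of A)).toTopCat
  let M := (ΓT.mapHomologicalComplex (ComplexShape.up ℕ)).obj D.K
  let F := forget₂ (ModuleCat.{u} R) AddCommGrpCat.{u}
  let N := (F.mapHomologicalComplex (ComplexShape.up ℕ)).obj (DeRham.cx hd)
  obtain ⟨E2⟩ := nonempty_map_extend_iso ΓT D.K
  have comm : ∀ (p : ℕ) (z : ↥(⋀[A]^p (Ω[A⁄R]))), (D.K.d p (p + 1)).hom.app (op ⊤) (e p z) = e (p + 1) (d p z) := by
    intro p z
    refine Groth.L14.DeRham.gen_induction (KaehlerDifferential.span_range_derivation R A)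
      (motive := fun z => (D.K.d p (p + 1)).hom.app (op ⊤) (e p z) = e (p + 1) (d p z))
      (fun b₀ b => ?_) (by simp) (fun x y hx hy => by simp only [map_add, hx, hy]) z
    rw [hd.1 p b₀ b, Groth.L14.DeRham.gen_one_cons, he, he, map_one, one_smul]
    refine (D.rule p (topAff A) (OmAff.toΓ A b₀) fun i => OmAff.toΓ A (b i)).trans ?_
    refine congrArg (fun v => (D.iso (p + 1)).inv.hom.app (op ⊤) ((D.loc (p + 1) (topAff A)).symm (ιMulti _ (p + 1) v)))
      (funext fun i => ?_)
    refine Fin.cases ?_ (fun j => ?_) i <;> simp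
  let E3 : N ≅ M := HomologicalComplex.Hom.isoOfComponents (fun p => (e p).toAddCommGrpIso) fun i j hij => by
    obtain rfl : i + 1 = j := hij
    refine AddCommGrpCat.hom_ext (AddMonoidHom.ext fun z => ?_)
    show (D.K.d i (i + 1)).hom.app (op ⊤) (e i z) = e (i + 1) ((F.map ((DeRham.cx hd).d i (i + 1))) z)
    rw [show (DeRham.cx hd).d i (i + 1) = ModuleCat.ofHom (d i) by simp [DeRham.cx]]
    exact comm i z
  let E4 : N.homology n ≅ F.obj ((DeRham.cx hd).homology n) := ((DeRham.cx hd).sc n).mapHomologyIso F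
  exact ⟨E1.symm.trans (((HomologicalComplex.homologyFunctor AddCommGrpCat.{u} (ComplexShape.up ℤ) (n : ℤ)).mapIso E2 ≪≫
    M.extendHomologyIso ComplexShape.embeddingUpNat (ComplexShape.embeddingUpNat_f n) ≪≫
    (HomologicalComplex.homologyFunctor AddCommGrpCat.{u} (ComplexShape.up ℕ) n).mapIso E3.symm ≪≫ E4).addCommGroupIsoToAddEquiv)⟩

theorem subsingleton_hdR_neg [HasDerivedCategory.{u} (Sheaf (Opens.grothendieckTopology ↥(Spec (CommRingCat.of A))) AddCommGrpCat.{u})]
    (i : ℤ) (hi : i < 0) : Subsingleton (DeRhamSh.HdR D i) := by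
  letI : HasDerivedCategory.{u} (CohTop.Ab (Spec (CommRingCat.of A)).toTopCat) :=
    (inferInstance : HasDerivedCategory.{u} (Sheaf (Opens.grothendieckTopology ↥(Spec (CommRingCat.of A))) AddCommGrpCat.{u}))
  have h0 : ∀ j < 0, IsZero (D.KZ.X j) := fun j hj =>
    D.K.isZero_extend_X _ j fun p hp => by simp only [ComplexShape.embeddingUpNat_f] at hp; omega
  obtain ⟨E⟩ := nonempty_sections_equiv_HDU (X := (Spec (CommRingCat.of A)).toTopCat) (K := D.KZ) h0 (acy_term R A D) i
  have hz : IsZero ((((Γt (Spec (CommRingCat.of A)).toTopCat).mapHomologicalComplex (ComplexShape.up ℤ)).obj D.KZ).homology i) :=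
    (HomologicalComplex.exactAt_iff_isZero_homology _ _).1
      ((ShortComplex.exact_of_isZero_X₂ _ (Functor.map_isZero (Γt (Spec (CommRingCat.of A)).toTopCat) (h0 i hi)) : _))
  haveI := AddCommGrpCat.subsingleton_of_isZero hz
  exact E.symm.toEquiv.subsingleton

end Groth.L15.Hyper
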