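import Groth.Agent.L15.Hyper.Sheaf
import Groth.Agent.L15.Hyper.OmegaVanish
import Groth.Agent.L16.ProperFinite
import Mathlib.RingTheory.Noetherian.Basic

/-!
# Finiteness of hypercohomology of a complex with linear differentials
-/

set_option autoImplicit false
set_option backward.isDefEq.respectTransparency false
set_option backward.isDefEq.respectTransparency.types false

universe w v u u'

open CategoryTheory CategoryTheory.Limits AlgebraicGeometry TopologicalSpace Opposite

noncomputable section

namespace Groth.L15.Hyper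

open E1Deg KLinDR

section Abstract

variable {A : Type u} [Category.{v} A] [Abelian A] [HasDerivedCategory.{w} A] (T : A)
  {R : Type u'} [Ring R] {K : CochainComplex A ℤ} (ρ : R →+* End K)

omit [HasDerivedCategory.{w} A] in
theorem stupidTrunc_hom_ext {L : CochainComplex A ℤ} {i : ℤ} {φ ψ : L ⟶ sigmaGE K i}
    (h : φ ≫ sigmaGEι K i = ψ ≫ sigmaGEι K i) : φ = ψ := by
  ext m
  by_cases hm : ∃ k : ℕ, (emb i).f k = m
  · obtain ⟨k, hk⟩ := hm
    have h' := congrArg (fun z => HomologicalComplex.Hom.f z m) h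
    simp only [HomologicalComplex.comp_f, sigmaGEι_f_eq K i hk] at h'
    exact (cancel_mono _).1 h'
  · exact (K.isZero_stupidTrunc_X (emb i) m (by simpa using hm)).eq_of_tgt _ _

/-- The action on a step of the stupid filtration. -/
def ρσ (i : ℤ) : R →+* End (sigmaGE K i) where
  toFun a := HomologicalComplex.stupidTruncMap (ρ a : K ⟶ K) (emb i)
  map_one' := stupidTrunc_hom_ext (by rw [sigmaGEι_naturality, map_one]; simp)
  map_mul' a b := stupidTrunc_hom_ext (by
    rw [sigmaGEι_naturality, map_mul, End.mul_def, End.mul_def, Category.assoc, sigmaGEι_naturality,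
      ← Category.assoc, ← Category.assoc, sigmaGEι_naturality])
  map_zero' := stupidTrunc_hom_ext (by
    rw [sigmaGEι_naturality, map_zero]
    exact (comp_zero).trans zero_comp.symm)
  map_add' a b := stupidTrunc_hom_ext (by
    rw [sigmaGEι_naturality, map_add, Preadditive.add_comp, sigmaGEι_naturality, sigmaGEι_naturality,
      Preadditive.comp_add])

/-- The action on a graded piece. -/
def ρg (i : ℤ) : R →+* End ((HomologicalComplex.single A (ComplexShape.up ℤ) i).obj (K.X i)) where
  toFun a := (HomologicalComplex.single A (ComplexShape.up ℤ) i).map ((ρ a : K ⟶ K).f i)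
  map_one' := by rw [map_one]; exact (HomologicalComplex.single A _ i).map_id _
  map_mul' a b := by
    rw [map_mul, End.mul_def, End.mul_def, HomologicalComplex.comp_f, Functor.map_comp]
  map_zero' := by rw [map_zero]; exact (HomologicalComplex.single A _ i).map_zero _ _
  map_add' a b := by
    rw [map_add, HomologicalComplex.add_f_apply]
    exact (HomologicalComplex.single A _ i).map_add

theorem commutes_ιSucc (i : ℤ) : Commutes (ρσ ρ (i + 1)) (ρσ ρ i) (sigmaGEιSucc K i) := fun a =>
  stupidTrunc_hom_ext (by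
    show (HomologicalComplex.stupidTruncMap (ρ a : K ⟶ K) (emb (i + 1)) ≫ sigmaGEιSucc K i) ≫ sigmaGEι K i =
      (sigmaGEιSucc K i ≫ HomologicalComplex.stupidTruncMap (ρ a : K ⟶ K) (emb i)) ≫ sigmaGEι K i
    rw [Category.assoc, sigmaGEιSucc_comp_ι, sigmaGEι_naturality, Category.assoc, sigmaGEι_naturality,
      ← Category.assoc, sigmaGEιSucc_comp_ι])

theorem commutes_π (i : ℤ) : Commutes (ρσ ρ i) (ρg ρ i) (sigmaGEπ K i) := fun a =>
  sigmaGEπ_naturality K (ρ a : K ⟶ K) i

theorem commutes_ι (i : ℤ) : Commutes (ρσ ρ i) ρ (sigmaGEι K i) := fun a =>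
  sigmaGEι_naturality K (ρ a : K ⟶ K) i

theorem finite_HT [IsNoetherianRing R] {N : ℤ} (hN : ∀ m, N < m → IsZero (K.X m))
    (h0 : ∀ m < 0, IsZero (K.X m)) (n : ℤ)
    (h : ∀ m : ℕ, Module.Finite R
      (HTρ T ((HomologicalComplex.single A (ComplexShape.up ℤ) (m : ℤ)).obj (K.X m)) (ρg ρ m) n)) :
    Module.Finite R (HTρ T K ρ n) := by
  suffices H : ∀ (j i : ℕ), N < (i : ℤ) + j → Module.Finite R (HTρ T (sigmaGE K i) (ρσ ρ i) n) by
    have := H ((N + 1).toNat) 0 (by omega)
    have := isIso_sigmaGEι K 0 h0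
    exact Module.Finite.of_surjective (HTρmap T (sigmaGEι K ((0 : ℕ) : ℤ)) (commutes_ι ρ _) n)
      (bijective_HTmap_of_isIso T (sigmaGEι K 0) n).2
  intro j
  induction j with
  | zero =>
    intro i hi
    have : Subsingleton (HTρ T (sigmaGE K i) (ρσ ρ i) n) :=
      subsingleton_HT_of_isZero T (isZero_sigmaGE K hN (by simpa using hi)) n
    infer_instance
  | succ j ih =>
    intro i hi
    have h1 := ih (i + 1) (by omega)
    rw [Nat.cast_succ] at h1
    have h2 := h i
    let f := HTρmap T (sigmaGEιSucc K (i : ℤ)) (commutes_ιSucc ρ _) n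
    let g := HTρmap T (sigmaGEπ K (i : ℤ)) (commutes_π ρ _) n
    refine Module.Finite.of_exact (f := f) (g := g.rangeRestrict) ?_ g.surjective_rangeRestrict
    intro x
    constructor
    · intro hx
      have hx' : g x = 0 := congrArg Subtype.val hx
      exact exact_mid T (sigmaSeq_shortExact K i) n (HTρ.toHT x) hx'
    · rintro ⟨y, rfl⟩
      refine Subtype.ext ?_
      show HTmap T (sigmaGEπ K (i : ℤ)) n (HTmap T (sigmaGEιSucc K (i : ℤ)) n (HTρ.toHT y)) = 0
      rw [← HTmap_comp, sigma_comp]
      simp [HTmap_apply]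

end Abstract

section Scheme

variable {X : Scheme.{u}} [HasDerivedCategory.{u} (ShX X)] {k : Type u} [CommRing k] [IsNoetherianRing k]
  {c : k →+* Coh.Γtop X} {K : CochainComplex (ShX X) ℕ} {term : ℕ → X.Modules}
  {iso : ∀ p : ℕ, K.X p ≅ Coh.toAb (term p)}

theorem finite_HT_terms (h : TermwiseLinear c K term iso) {N : ℕ} (hN : ∀ p, N < p → IsZero (K.X p)) (n : ℤ)
    (hf : ∀ p q : ℕ, letI := Module.compHom (Coh.HH X (term p) q) c; Module.Finite k (Coh.HH X (term p) q)) :
    Module.Finite k (HTρ (topFree X) (KZ K) (scalar h) n) := by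
  refine finite_HT (topFree X) (scalar h) (N := N) (isZero_KZ_high K hN) (isZero_KZ_neg K) n fun p => ?_
  rcases lt_or_ge n (p : ℤ) with hn | hn
  · have : Subsingleton (HTρ (topFree X) ((HomologicalComplex.single _ (ComplexShape.up ℤ) (p : ℤ)).obj ((KZ K).X p))
        (ρg (scalar h) p) n) := subsingleton_single (topFree X) p n _ hn
    infer_instance
  · obtain ⟨q, hq⟩ := Int.eq_ofNat_of_zero_le (show 0 ≤ n - p by omega)
    letI := Module.compHom (Coh.HH X (term p) q) c
    haveI := hf p q
    let e := hgEquiv K p q n (by omega) (iso p)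
    refine Module.Finite.equiv (LinearEquiv.symm
      { (HTρ.toHT.trans e : HTρ (topFree X) _ (ρg (scalar h) p) n ≃+ _) with
        map_smul' := fun a x => ?_ } : Coh.HH X (term p) q ≃ₗ[k] HTρ (topFree X) _ (ρg (scalar h) p) n)
    exact hgEquiv_smul K p q n (by omega) (iso p) ((scalar h a : KZ K ⟶ KZ K).f p) (c a) (by
      rw [scalar_f]
      simp [scalarEnd, termIso]) (HTρ.toHT x)

end Scheme

end Groth.L15.Hyper
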