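import Groth.Agent.L15.Hyper.Sheaf
import Groth.Agent.L15.PnHodge.Vanish

/-!
# De Rham cohomology of projective space
-/

set_option autoImplicit false
set_option linter.style.haveILetI false
set_option backward.isDefEq.respectTransparency false
set_option backward.isDefEq.respectTransparency.types false

universe u

open CategoryTheory CategoryTheory.Limits AlgebraicGeometry TopologicalSpace Opposite

noncomputable section

namespace Groth.L15.PnDR

open Groth.L15.Hyper Groth.L15.PnHodge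

variable (n : ℕ) (A : Type u) [CommRing A] [QuasiSeparated (CohB1.ProjSpace.toSpec n A)]
  (D : DeRhamSh.OmegaCx (CohB1.ProjSpace.toSpec n A))

theorem isZero_K (p : ℕ) (hp : n < p) : IsZero (D.K.X p) := by
  obtain ⟨e⟩ := nonempty_iso_of_hodge n A (D.isExtPow p)
  have hT : IsZero (D.term p) := (isZero_om n A 0 hp).of_iso e
  refine IsZero.of_iso ?_ (D.iso p)
  exact Functor.map_isZero (SheafOfModules.toSheaf _) hT

theorem subsingleton_term (hn : 1 ≤ n) (p q : ℕ) (h : p ≠ q ∨ n < p) :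
    Subsingleton (Coh.HH (CohB1.ProjSpace n A) (D.term p) q) := by
  obtain ⟨e⟩ := nonempty_iso_of_hodge n A (D.isExtPow p)
  refine subsingleton_congr n A e.symm q ?_
  rcases h with h | h
  · exact om_diag_ne n A hn p q h
  · exact om_high n A 0 h q

theorem nonempty_term (hn : 1 ≤ n) (p : ℕ) (hp : p ≤ n) :
    Nonempty (Coh.HH (CohB1.ProjSpace n A) (D.term p) p ≃ₗ[A] A) := by
  obtain ⟨e⟩ := nonempty_iso_of_hodge n A (D.isExtPow p)
  obtain ⟨f⟩ := om_diag n A hn p hp
  exact ⟨(hhIso A e p).trans f⟩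

variable [HasDerivedCategory.{u} (ShX (CohB1.ProjSpace n A))]

theorem subsingleton_hdR (hn : 1 ≤ n) (m : ℤ) (hm : ∀ i : ℕ, i ≤ n → m ≠ 2 * (i : ℤ)) :
    Subsingleton (DeRhamSh.HdR D m) :=
  subsingleton_HT_terms D.K D.iso (isZero_K n A D) m fun p q hp hpq =>
    subsingleton_term n A D hn p q (Or.inl fun h => hm p hp (by omega))

theorem exists_equiv (hn : 1 ≤ n) (i : ℕ) (hi : i ≤ n) :
    ∃ e : DeRhamSh.HdR D (2 * (i : ℤ)) ≃+ A,
      ∀ (h : KLinDR.TermwiseLinear (Coh.toGlobal (CohB1.ProjSpace.toSpec n A)) D.K D.term D.iso) (a : A)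
        (x : DeRhamSh.HdR D (2 * (i : ℤ))),
        e (E1Deg.HTmap (topFree _) (KLinDR.scalar h a : D.KZ ⟶ D.KZ) (2 * (i : ℤ)) x) = a • e x := by
  obtain ⟨e, he⟩ := exists_equiv_terms D.K D.iso (isZero_K n A D) (2 * (i : ℤ)) i i (by omega)
    (fun p q hp h1 h2 => subsingleton_term n A D hn p q (Or.inl fun hpq => hp (by omega)))
  obtain ⟨f⟩ := nonempty_term n A D hn i hi
  refine ⟨e.trans f.toAddEquiv, fun h a x => ?_⟩
  have := he (KLinDR.scalar h a) (Coh.toGlobal (CohB1.ProjSpace.toSpec n A) a) (by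
    rw [KLinDR.scalar_f]
    simp [KLinDR.scalarEnd, termIso]) x
  rw [AddEquiv.trans_apply, AddEquiv.trans_apply, this]
  exact f.map_smul a (e x)

theorem nonempty_linearEquiv (hn : 1 ≤ n) (i : ℕ) (hi : i ≤ n)
    (h : KLinDR.TermwiseLinear (Coh.toGlobal (CohB1.ProjSpace.toSpec n A)) D.K D.term D.iso) :
    Nonempty (KLinDR.HdR (Coh.toGlobal (CohB1.ProjSpace.toSpec n A)) D h (2 * (i : ℤ)) ≃ₗ[A] A) := by
  obtain ⟨e, he⟩ := exists_equiv n A D hn i hi
  exact ⟨{ (KLinDR.HTρ.toHT.trans e) with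
    map_smul' := fun a x => he h a (KLinDR.HTρ.toHT x) }⟩

end Groth.L15.PnDR
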