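import Groth.Prelude.Def_E1Deg
import Mathlib.Algebra.Homology.DerivedCategory.ShortExact
import Mathlib.Algebra.Homology.DerivedCategory.TStructure
import Mathlib.Algebra.Homology.DerivedCategory.Ext.Basic
import Mathlib.CategoryTheory.Triangulated.Yoneda
import Mathlib.CategoryTheory.Triangulated.HomologicalFunctor

/-!
# Hypercohomology through the stupid filtration
-/

set_option autoImplicit false
set_option backward.isDefEq.respectTransparency false
set_option backward.isDefEq.respectTransparency.types false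

universe w v u

open CategoryTheory CategoryTheory.Limits Opposite

noncomputable section

namespace Groth.L15.Hyper

open E1Deg

variable {A : Type u} [Category.{v} A] [Abelian A] [HasDerivedCategory.{w} A] (T : A)

/-- The functor `Hom(T, -)` on the derived category. -/
abbrev homT : DerivedCategory A ⥤ AddCommGrpCat.{w} :=
  preadditiveCoyoneda.obj (op ((DerivedCategory.singleFunctor A 0).obj T))

section SES

variable {S : ShortComplex (CochainComplex A ℤ)} (hS : S.ShortExact)
include hS

theorem exact_mid (n : ℤ) (x : HT T S.X₂ n) (hx : HTmap T S.g n x = 0) :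
    ∃ y : HT T S.X₁ n, HTmap T S.f n y = x := by
  have h := (homT T).homologySequence_exact₂ _ (DerivedCategory.triangleOfSES_distinguished hS) n
  rw [ShortComplex.ab_exact_iff] at h
  exact h x hx

theorem injective_f (n₀ n₁ : ℤ) (h : n₀ + 1 = n₁) (h₃ : Subsingleton (HT T S.X₃ n₀)) :
    Function.Injective (HTmap T S.f n₁) := by
  have e := (homT T).homologySequence_exact₁ _ (DerivedCategory.triangleOfSES_distinguished hS) n₀ n₁ h
  rw [ShortComplex.ab_exact_iff] at e
  refine (injective_iff_map_eq_zero _).2 fun x hx => ?_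
  obtain ⟨z, hz⟩ := e x hx
  rw [← hz, show z = 0 from Subsingleton.elim (α := HT T S.X₃ n₀) z 0]
  exact map_zero _

theorem surjective_g (n₀ n₁ : ℤ) (h : n₀ + 1 = n₁) (h₁ : Subsingleton (HT T S.X₁ n₁)) :
    Function.Surjective (HTmap T S.g n₀) := by
  have e := (homT T).homologySequence_exact₃ _ (DerivedCategory.triangleOfSES_distinguished hS) n₀ n₁ h
  rw [ShortComplex.ab_exact_iff] at e
  exact fun x => e x (Subsingleton.elim (α := HT T S.X₁ n₁) _ _)

theorem bijective_g (n : ℤ) (h₁ : Subsingleton (HT T S.X₁ n)) (h₁' : Subsingleton (HT T S.X₁ (n + 1))) :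
    Function.Bijective (HTmap T S.g n) := by
  refine ⟨(injective_iff_map_eq_zero _).2 fun x hx => ?_, surjective_g T hS n (n + 1) rfl h₁'⟩
  obtain ⟨y, rfl⟩ := exact_mid T hS n x hx
  rw [Subsingleton.elim y 0, map_zero]

theorem bijective_f (n : ℤ) (h₃ : Subsingleton (HT T S.X₃ (n - 1))) (h₃' : Subsingleton (HT T S.X₃ n)) :
    Function.Bijective (HTmap T S.f n) :=
  ⟨injective_f T hS (n - 1) n (by omega) h₃,
    fun x => exact_mid T hS n x (Subsingleton.elim _ _)⟩

theorem subsingleton_mid (n : ℤ) (h₁ : Subsingleton (HT T S.X₁ n)) (h₃ : Subsingleton (HT T S.X₃ n)) :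
    Subsingleton (HT T S.X₂ n) := by
  refine subsingleton_of_forall_eq 0 fun x => ?_
  obtain ⟨y, rfl⟩ := exact_mid T hS n x (Subsingleton.elim _ _)
  rw [Subsingleton.elim y 0, map_zero]

end SES

theorem subsingleton_HT_of_isZero {K : CochainComplex A ℤ} (h : IsZero K) (n : ℤ) :
    Subsingleton (HT T K n) :=
  subsingleton_of_forall_eq 0 fun x =>
    ((Functor.map_isZero (shiftFunctor (DerivedCategory A) n)
      (Functor.map_isZero DerivedCategory.Q h)).eq_of_tgt x 0)

theorem bijective_HTmap_of_isIso {K L : CochainComplex A ℤ} (φ : K ⟶ L) [IsIso φ] (n : ℤ) :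
    Function.Bijective (HTmap T φ n) :=
  Function.bijective_iff_has_inverse.2 ⟨HTmap T (inv φ) n,
    fun x => by rw [← HTmap_comp, IsIso.hom_inv_id, HTmap_id],
    fun x => by rw [← HTmap_comp, IsIso.inv_hom_id, HTmap_id]⟩

section Filtration

variable (K : CochainComplex A ℤ)

theorem isZero_single_X (i m : ℤ) (X : A) (h : m ≠ i) :
    IsZero (((HomologicalComplex.single A (ComplexShape.up ℤ) i).obj X).X m) :=
  HomologicalComplex.isZero_single_obj_X _ _ _ _ h

theorem sigma_comp (i : ℤ) : sigmaGEιSucc K i ≫ sigmaGEπ K i = 0 := by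
  ext
  refine (K.isZero_stupidTrunc_X _ i ?_).eq_of_src _ _
  intro k hk
  simp only [ComplexShape.embeddingUpIntGE_f] at hk
  omega

/-- The graded step of the stupid filtration. -/
abbrev sigmaSeq (i : ℤ) : ShortComplex (CochainComplex A ℤ) :=
  ShortComplex.mk (sigmaGEιSucc K i) (sigmaGEπ K i) (sigma_comp K i)

theorem sigmaSeq_shortExact (i : ℤ) : (sigmaSeq K i).ShortExact := by
  refine HomologicalComplex.shortExact_of_degreewise_shortExact _ fun m => ?_
  rcases lt_trichotomy m i with hm | hm | hm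
  · have z₁ : IsZero ((sigmaGE K (i + 1)).X m) := K.isZero_stupidTrunc_X _ m fun k hk => by
      simp only [ComplexShape.embeddingUpIntGE_f] at hk; omega
    have z₂ : IsZero ((sigmaGE K i).X m) := K.isZero_stupidTrunc_X _ m fun k hk => by
      simp only [ComplexShape.embeddingUpIntGE_f] at hk; omega
    have z₃ := isZero_single_X i m (K.X i) (by omega)
    exact
      { exact := ShortComplex.exact_of_isZero_X₂ _ z₂
        mono_f := ⟨fun _ _ _ => z₁.eq_of_tgt _ _⟩
        epi_g := ⟨fun _ _ _ => z₃.eq_of_src _ _⟩ }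
  · subst hm
    have z₁ : IsZero ((sigmaGE K (m + 1)).X m) := K.isZero_stupidTrunc_X _ m fun k hk => by
      simp only [ComplexShape.embeddingUpIntGE_f] at hk; omega
    have : IsIso ((sigmaGEπ K m).f m) := by rw [sigmaGEπ_f]; infer_instance
    exact
      { exact := (ShortComplex.exact_iff_mono _ (z₁.eq_of_src _ _)).2
          (show Mono ((sigmaGEπ K m).f m) from inferInstance)
        mono_f := ⟨fun _ _ _ => z₁.eq_of_tgt _ _⟩
        epi_g := show Epi ((sigmaGEπ K m).f m) from inferInstance }
  · obtain ⟨k, hk⟩ : ∃ k : ℕ, (emb (i + 1)).f k = m :=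
      ⟨(m - (i + 1)).toNat, by simp only [ComplexShape.embeddingUpIntGE_f]; omega⟩
    have z₃ := isZero_single_X i m (K.X i) (by omega)
    have : IsIso ((sigmaGEιSucc K i).f m) := by rw [sigmaGEιSucc_f_eq K i hk]; infer_instance
    exact
      { exact := (ShortComplex.exact_iff_epi _ (z₃.eq_of_tgt _ _)).2
          (show Epi ((sigmaGEιSucc K i).f m) from inferInstance)
        mono_f := show Mono ((sigmaGEιSucc K i).f m) from inferInstance
        epi_g := ⟨fun _ _ _ => z₃.eq_of_src _ _⟩ }

theorem isZero_sigmaGE {N i : ℤ} (hN : ∀ m, N < m → IsZero (K.X m)) (h : N < i) : IsZero (sigmaGE K i) := by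
  rw [IsZero.iff_id_eq_zero]
  ext m
  refine IsZero.eq_of_src ?_ _ _
  by_cases hm : ∃ k : ℕ, (emb i).f k = m
  · obtain ⟨k, hk⟩ := hm
    refine (hN m ?_).of_iso (K.stupidTruncXIso (emb i) hk)
    simp only [ComplexShape.embeddingUpIntGE_f] at hk
    omega
  · exact K.isZero_stupidTrunc_X (emb i) m (by simpa using hm)

/-- `H_T^n` of the graded piece. -/
abbrev HG (m n : ℤ) : Type w := HT T ((HomologicalComplex.single A (ComplexShape.up ℤ) m).obj (K.X m)) n

theorem subsingleton_sigmaGE {N i : ℤ} (hN : ∀ m, N < m → IsZero (K.X m)) (n : ℤ)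
    (h : ∀ m, i ≤ m → Subsingleton (HG T K m n)) : Subsingleton (HT T (sigmaGE K i) n) := by
  suffices H : ∀ (k : ℕ) (i' : ℤ), i ≤ i' → N < i' + k → Subsingleton (HT T (sigmaGE K i') n) from
    H (N + 1 - i).toNat i le_rfl (by omega)
  intro k
  induction k with
  | zero => exact fun i' _ h' => subsingleton_HT_of_isZero T (isZero_sigmaGE K hN (by simpa using h')) n
  | succ k ih =>
    intro i' hi' h'
    exact subsingleton_mid T (sigmaSeq_shortExact K i') n (ih (i' + 1) (by omega) (by omega)) (h i' hi')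

theorem bijective_HTmap_ι (n : ℤ) (h0 : ∀ m < 0, IsZero (K.X m)) (j : ℕ)
    (hlo : ∀ m : ℕ, m < j → Subsingleton (HG T K m (n - 1)) ∧ Subsingleton (HG T K m n)) :
    Function.Bijective (HTmap T (sigmaGEι K (j : ℤ)) n) := by
  induction j with
  | zero =>
    have := isIso_sigmaGEι K 0 h0
    exact bijective_HTmap_of_isIso T (sigmaGEι K 0) n
  | succ j ih =>
    have hb := bijective_f T (sigmaSeq_shortExact K j) n (hlo j (Nat.lt_succ_self j)).1
      (hlo j (Nat.lt_succ_self j)).2
    rw [Nat.cast_succ, ← sigmaGEιSucc_comp_ι]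
    have : ⇑(HTmap T (sigmaGEιSucc K (j : ℤ) ≫ sigmaGEι K (j : ℤ)) n) =
        HTmap T (sigmaGEι K (j : ℤ)) n ∘ HTmap T (sigmaGEιSucc K (j : ℤ)) n :=
      funext (HTmap_comp T _ _ n)
    rw [this]
    exact (ih fun m hm => hlo m (Nat.lt_succ_of_lt hm)).comp hb

theorem subsingleton_HT {N : ℤ} (hN : ∀ m, N < m → IsZero (K.X m)) (h0 : ∀ m < 0, IsZero (K.X m)) (n : ℤ)
    (h : ∀ m : ℕ, Subsingleton (HG T K m n)) : Subsingleton (HT T K n) := by
  have := isIso_sigmaGEι K 0 h0
  have hs : Subsingleton (HT T (sigmaGE K 0) n) := subsingleton_sigmaGE T K hN n fun m hm => by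
    obtain ⟨q, rfl⟩ := Int.eq_ofNat_of_zero_le hm
    exact h q
  exact (Function.Bijective.surjective (bijective_HTmap_of_isIso T (sigmaGEι K 0) n)).subsingleton

theorem bijective_HTmap_π {N : ℤ} (hN : ∀ m, N < m → IsZero (K.X m)) (n j : ℤ)
    (hhi : ∀ m, j < m → Subsingleton (HG T K m n) ∧ Subsingleton (HG T K m (n + 1))) :
    Function.Bijective (HTmap T (sigmaGEπ K j) n) :=
  bijective_g T (sigmaSeq_shortExact K j) n
    (subsingleton_sigmaGE T K hN n fun m hm => (hhi m (by omega)).1)
    (subsingleton_sigmaGE T K hN (n + 1) fun m hm => (hhi m (by omega)).2)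

theorem sigmaGEι_naturality (g : K ⟶ K) (i : ℤ) :
    HomologicalComplex.stupidTruncMap g (emb i) ≫ sigmaGEι K i = sigmaGEι K i ≫ g := by
  ext m
  by_cases hm : ∃ k : ℕ, (emb i).f k = m
  · obtain ⟨k, hk⟩ := hm
    rw [HomologicalComplex.comp_f, HomologicalComplex.comp_f, sigmaGEι_f_eq K i hk,
      HomologicalComplex.stupidTruncMap_stupidTruncXIso_hom]
  · exact (K.isZero_stupidTrunc_X (emb i) m (by simpa using hm)).eq_of_src _ _

theorem sigmaGEπ_naturality (g : K ⟶ K) (i : ℤ) :
    HomologicalComplex.stupidTruncMap g (emb i) ≫ sigmaGEπ K i =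
      sigmaGEπ K i ≫ (HomologicalComplex.single A (ComplexShape.up ℤ) i).map (g.f i) := by
  ext
  rw [HomologicalComplex.comp_f, HomologicalComplex.comp_f, sigmaGEπ_f,
    HomologicalComplex.single_map_f_self]
  simp [HomologicalComplex.stupidTruncMap_stupidTruncXIso_hom_assoc]

/-- If only the graded piece in degree `j` contributes, then `H_T^n(K)` is its cohomology, compatibly with
endomorphisms of the complex. -/
theorem exists_equiv_graded {N : ℤ} (hN : ∀ m, N < m → IsZero (K.X m)) (h0 : ∀ m < 0, IsZero (K.X m)) (n : ℤ)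
    (j : ℕ) (hlo : ∀ m : ℕ, m < j → Subsingleton (HG T K m (n - 1)) ∧ Subsingleton (HG T K m n))
    (hhi : ∀ m : ℕ, j < m → Subsingleton (HG T K m n) ∧ Subsingleton (HG T K m (n + 1))) :
    ∃ e : HT T K n ≃+ HG T K j n, ∀ (g : K ⟶ K) (x : HT T K n),
      e (HTmap T g n x) =
        HTmap T ((HomologicalComplex.single A (ComplexShape.up ℤ) (j : ℤ)).map (g.f j)) n (e x) := by
  have hι := bijective_HTmap_ι T K n h0 j hlo
  have hπ := bijective_HTmap_π T K hN n j fun m hm => by
    obtain ⟨q, rfl⟩ := Int.eq_ofNat_of_zero_le (show 0 ≤ m by omega)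
    exact hhi q (by omega)
  refine ⟨(AddEquiv.ofBijective _ hι).symm.trans (AddEquiv.ofBijective _ hπ), fun g x => ?_⟩
  obtain ⟨y, rfl⟩ := hι.2 x
  have e1 : (AddEquiv.ofBijective _ hι).symm (HTmap T (sigmaGEι K (j : ℤ)) n y) = y :=
    (AddEquiv.ofBijective _ hι).symm_apply_apply y
  have e2 : (AddEquiv.ofBijective _ hι).symm (HTmap T g n (HTmap T (sigmaGEι K (j : ℤ)) n y)) =
      HTmap T (HomologicalComplex.stupidTruncMap g (emb (j : ℤ))) n y := by
    rw [AddEquiv.symm_apply_eq, AddEquiv.ofBijective_apply, ← HTmap_comp, ← HTmap_comp, sigmaGEι_naturality]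
  simp only [AddEquiv.trans_apply, e1, e2, AddEquiv.ofBijective_apply]
  rw [← HTmap_comp, ← HTmap_comp, sigmaGEπ_naturality]

end Filtration

section Single

theorem shift_single_iso (m n : ℤ) :
    Nonempty (HomologicalComplex.single A (ComplexShape.up ℤ) m ⋙ DerivedCategory.Q ⋙
      shiftFunctor (DerivedCategory A) n ≅
        DerivedCategory.singleFunctor A 0 ⋙ shiftFunctor (DerivedCategory A) (n - m)) :=
  ⟨(DerivedCategory.singleFunctors A).shiftIso n (m - n) m (by omega) ≪≫
    ((DerivedCategory.singleFunctors A).shiftIso (n - m) (m - n) 0 (by omega)).symm⟩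

/-- The identification of `H_T^n` of a graded piece placed in degree `m`. -/
def singleEquiv (m n : ℤ) (X : A) :
    HT T ((HomologicalComplex.single A (ComplexShape.up ℤ) m).obj X) n ≃+
      ShiftedHom ((DerivedCategory.singleFunctor A 0).obj T) ((DerivedCategory.singleFunctor A 0).obj X) (n - m) where
  toFun x := x ≫ (shift_single_iso (A := A) m n).some.hom.app X
  invFun x := x ≫ (shift_single_iso (A := A) m n).some.inv.app X
  left_inv x := by simp
  right_inv x := by simp
  map_add' x y := Preadditive.add_comp _ _ _ _ _ _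

theorem singleEquiv_naturality (m n : ℤ) {X Y : A} (f : X ⟶ Y)
    (x : HT T ((HomologicalComplex.single A (ComplexShape.up ℤ) m).obj X) n) :
    singleEquiv T m n Y (HTmap T ((HomologicalComplex.single A (ComplexShape.up ℤ) m).map f) n x) =
      singleEquiv T m n X x ≫ (shiftFunctor _ (n - m)).map ((DerivedCategory.singleFunctor A 0).map f) := by
  refine (Category.assoc _ _ _).trans ((congrArg (x ≫ ·) ?_).trans (Category.assoc _ _ _).symm)
  exact (shift_single_iso (A := A) m n).some.hom.naturality f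

theorem subsingleton_single (m n : ℤ) (X : A) (h : n < m) :
    Subsingleton (HT T ((HomologicalComplex.single A (ComplexShape.up ℤ) m).obj X) n) := by
  refine (singleEquiv T m n X).toEquiv.subsingleton_congr.2 (subsingleton_of_forall_eq 0 fun x => ?_)
  have := DerivedCategory.TStructure.t.isGE_shift ((DerivedCategory.singleFunctor A 0).obj X)
    0 (n - m) (m - n) (by omega)
  exact DerivedCategory.TStructure.t.zero x 0 (m - n) (by omega)

/-- Changing the degree of a shifted morphism along an equality. -/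
def degCongr {X Y : DerivedCategory A} {a b : ℤ} (h : a = b) : ShiftedHom X Y a ≃+ ShiftedHom X Y b := by
  subst h
  exact AddEquiv.refl _

theorem degCongr_comp {X Y Z : DerivedCategory A} {a b : ℤ} (h : a = b) (g : Y ⟶ Z) (x : ShiftedHom X Y a) :
    degCongr h (x ≫ (shiftFunctor _ a).map g) = degCongr h x ≫ (shiftFunctor _ b).map g := by
  subst h
  rfl

variable [HasExt.{w} A]

/-- `H_T^(m+q)` of a graded piece in degree `m` is `Ext^q`. -/
def singleExtEquiv (m : ℤ) (q : ℕ) (n : ℤ) (h : m + q = n) (X : A) :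
    HT T ((HomologicalComplex.single A (ComplexShape.up ℤ) m).obj X) n ≃+ Abelian.Ext T X q :=
  (singleEquiv T m n X).trans
    ((degCongr (show n - m = (q : ℤ) by omega)).trans Abelian.Ext.homAddEquiv.symm)

theorem singleExtEquiv_naturality (m : ℤ) (q : ℕ) (n : ℤ) (h : m + q = n) {X Y : A} (f : X ⟶ Y)
    (x : HT T ((HomologicalComplex.single A (ComplexShape.up ℤ) m).obj X) n) :
    singleExtEquiv T m q n h Y (HTmap T ((HomologicalComplex.single A (ComplexShape.up ℤ) m).map f) n x) =
      (singleExtEquiv T m q n h X x).comp (Abelian.Ext.mk₀ f) (add_zero q) := by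
  apply Abelian.Ext.homAddEquiv.injective
  simp only [singleExtEquiv, AddEquiv.trans_apply, AddEquiv.apply_symm_apply]
  rw [singleEquiv_naturality]
  generalize singleEquiv T m n X x = y
  simp only [Abelian.Ext.homAddEquiv_apply, Abelian.Ext.comp_hom, Abelian.Ext.mk₀_hom, ShiftedHom.comp_mk₀]
  rw [← Abelian.Ext.homAddEquiv_apply, AddEquiv.apply_symm_apply]
  exact degCongr_comp _ _ _

end Single

end Groth.L15.Hyper
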