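import Groth.Prelude.Def_KLinDR
import Groth.Agent.L15.Hyper.Stupid
import Groth.Agent.L17.SheafExt

/-!
# Hypercohomology of a complex of modules with additive differentials, through its terms
-/

set_option autoImplicit false
set_option backward.isDefEq.respectTransparency false
set_option backward.isDefEq.respectTransparency.types false

universe u

open CategoryTheory CategoryTheory.Limits AlgebraicGeometry TopologicalSpace Opposite

noncomputable section

namespace Groth.L15.Hyper

open E1Deg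

variable {X : Scheme.{u}}

/-- Abelian sheaves on a scheme. -/
abbrev ShX (X : Scheme.{u}) := Sheaf (Opens.grothendieckTopology X) AddCommGrpCat.{u}

/-- The test object: the free abelian sheaf on the whole space. -/
abbrev topFree (X : Scheme.{u}) : ShX X := CohCx.freeSheaf (Opens.grothendieckTopology X) ⊤

variable [HasDerivedCategory.{u} (ShX X)] (K : CochainComplex (ShX X) ℕ)

/-- The extension of `K` to all integer degrees. -/
abbrev KZ : CochainComplex (ShX X) ℤ := K.extend ComplexShape.embeddingUpNat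

omit [HasDerivedCategory.{u} (ShX X)] in
theorem isZero_KZ_neg : ∀ m < 0, IsZero ((KZ K).X m) := fun m hm =>
  K.isZero_extend_X _ m fun p hp => by
    simp only [ComplexShape.embeddingUpNat_f] at hp; omega

omit [HasDerivedCategory.{u} (ShX X)] in
theorem isZero_KZ_high {N : ℕ} (h : ∀ p, N < p → IsZero (K.X p)) : ∀ m : ℤ, (N : ℤ) < m → IsZero ((KZ K).X m) :=
  fun m hm => by
    obtain ⟨p, rfl⟩ := Int.eq_ofNat_of_zero_le (show 0 ≤ m by omega)
    exact (h p (by omega)).of_iso (K.extendXIso _ (ComplexShape.embeddingUpNat_f p))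

/-- The degree `p` term read as a module. -/
abbrev termIso {M : X.Modules} (p : ℕ) (e : K.X p ≅ Coh.toAb M) : (KZ K).X (p : ℤ) ≅ Coh.toAb M :=
  K.extendXIso ComplexShape.embeddingUpNat (ComplexShape.embeddingUpNat_f p) ≪≫ e

/-- `H^(p+q)` of the graded piece in degree `p` is `H^q` of the `p`-th term. -/
def hgEquiv {M : X.Modules} (p q : ℕ) (n : ℤ) (h : (p : ℤ) + q = n) (e : K.X p ≅ Coh.toAb M) :
    HG (topFree X) (KZ K) p n ≃+ Coh.HH X M q :=
  ((AddEquiv.ofBijective _ (bijective_HTmap_of_isIso (topFree X)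
      ((HomologicalComplex.single _ (ComplexShape.up ℤ) (p : ℤ)).map (termIso K p e).hom) n)).trans
    (singleExtEquiv (topFree X) (p : ℤ) q n h (Coh.toAb M))).trans
      (Groth.L17.hTopEquiv (Coh.toAb M) q).symm

theorem hgEquiv_smul {M : X.Modules} (p q : ℕ) (n : ℤ) (h : (p : ℤ) + q = n) (e : K.X p ≅ Coh.toAb M)
    (g : (KZ K).X (p : ℤ) ⟶ (KZ K).X (p : ℤ)) (r : Coh.Γtop X)
    (hg : g ≫ (termIso K p e).hom = (termIso K p e).hom ≫ Coh.smulAb M r) (x : HG (topFree X) (KZ K) p n) :
    hgEquiv K p q n h e (HTmap (topFree X) ((HomologicalComplex.single _ (ComplexShape.up ℤ) (p : ℤ)).map g) n x) =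
      r • hgEquiv K p q n h e x := by
  simp only [hgEquiv, AddEquiv.trans_apply, AddEquiv.ofBijective_apply]
  rw [← HTmap_comp, ← Functor.map_comp, hg, Functor.map_comp, HTmap_comp, singleExtEquiv_naturality]
  exact (Abelian.Ext.comp_assoc _ _ _ (zero_add q) (add_zero q) (by omega)).symm

theorem subsingleton_HG_term {M : X.Modules} (p : ℕ) (n : ℤ) (e : K.X p ≅ Coh.toAb M)
    (h : ∀ q : ℕ, (p : ℤ) + q = n → Subsingleton (Coh.HH X M q)) :
    Subsingleton (HG (topFree X) (KZ K) p n) := by
  rcases lt_or_ge n (p : ℤ) with hn | hn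
  · exact subsingleton_single (topFree X) p n _ hn
  · obtain ⟨q, hq⟩ := Int.eq_ofNat_of_zero_le (show 0 ≤ n - p by omega)
    exact (hgEquiv K p q n (by omega) e).toEquiv.subsingleton_congr.2 (h q (by omega))

variable {term : ℕ → X.Modules} (iso : ∀ p : ℕ, K.X p ≅ Coh.toAb (term p))
include iso

/-- Vanishing of hypercohomology from the terms. -/
theorem subsingleton_HT_terms {N : ℕ} (hN : ∀ p, N < p → IsZero (K.X p)) (n : ℤ)
    (h : ∀ p q : ℕ, p ≤ N → (p : ℤ) + q = n → Subsingleton (Coh.HH X (term p) q)) :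
    Subsingleton (HT (topFree X) (KZ K) n) := by
  refine subsingleton_HT _ _ (N := N) (isZero_KZ_high K hN) (isZero_KZ_neg K) n fun p => ?_
  by_cases hp : p ≤ N
  · exact subsingleton_HG_term K p n (iso p) fun q hq => h p q hp hq
  · exact subsingleton_HT_of_isZero _
      (Functor.map_isZero _ ((hN p (by omega)).of_iso (K.extendXIso _ (ComplexShape.embeddingUpNat_f p)))) n

/-- If only the term `p₀` contributes, hypercohomology is its cohomology, compatibly with endomorphisms. -/
theorem exists_equiv_terms {N : ℕ} (hN : ∀ p, N < p → IsZero (K.X p)) (n : ℤ) (p₀ q₀ : ℕ)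
    (hn : (p₀ : ℤ) + q₀ = n)
    (h : ∀ p q : ℕ, p ≠ p₀ → n - 1 ≤ (p : ℤ) + q → (p : ℤ) + q ≤ n + 1 → Subsingleton (Coh.HH X (term p) q)) :
    ∃ e : HT (topFree X) (KZ K) n ≃+ Coh.HH X (term p₀) q₀, ∀ (g : KZ K ⟶ KZ K) (r : Coh.Γtop X),
      g.f (p₀ : ℤ) ≫ (termIso K p₀ (iso p₀)).hom = (termIso K p₀ (iso p₀)).hom ≫ Coh.smulAb (term p₀) r →
      ∀ x, e (HTmap (topFree X) g n x) = r • e x := by
  obtain ⟨e, he⟩ := exists_equiv_graded (topFree X) (KZ K) (N := N) (isZero_KZ_high K hN) (isZero_KZ_neg K) n p₀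
    (fun m hm => ⟨subsingleton_HG_term K m _ (iso m) fun q hq => h m q (by omega) (by omega) (by omega),
      subsingleton_HG_term K m _ (iso m) fun q hq => h m q (by omega) (by omega) (by omega)⟩)
    (fun m hm => ⟨subsingleton_HG_term K m _ (iso m) fun q hq => h m q (by omega) (by omega) (by omega),
      subsingleton_HG_term K m _ (iso m) fun q hq => h m q (by omega) (by omega) (by omega)⟩)
  refine ⟨e.trans (hgEquiv K p₀ q₀ n hn (iso p₀)), fun g r hg x => ?_⟩
  rw [AddEquiv.trans_apply, AddEquiv.trans_apply, he, hgEquiv_smul K p₀ q₀ n hn (iso p₀) _ r hg]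

end Groth.L15.Hyper
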